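import Groth.Agent.H28Surf.Hodge
import Groth.Prelude.Def_NumR

/-!
# The intersection form on real numerical classes of a surface
-/

set_option autoImplicit false
set_option linter.style.haveILetI false
set_option linter.unusedSectionVars false
set_option backward.isDefEq.respectTransparency.types false
universe u

open CategoryTheory CategoryTheory.Limits AlgebraicGeometry Opposite TopologicalSpace
open Groth.Agent.H28Surf

namespace Groth.Agent.H28Num

variable {X : Scheme.{u}} (k : Type u) [Field k] [X.Over (Spec (CommRingCat.of k))] [PicGrp.Law X]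

theorem clR_congr {L M : X.Modules} (hL : PicF.IsInvertible L) (hM : PicF.IsInvertible M) (e : L ≅ M) :
    NumR.clR k X L hL = NumR.clR k X M hM := by
  rw [NumR.clR, NumR.clR, NumR.cl, NumR.cl, (PicGrp.cls_eq_cls_iff hL hM).2 ⟨e⟩]

theorem clR_tensor {L M : X.Modules} (hL : PicF.IsInvertible L) (hM : PicF.IsInvertible M)
    (hLM : PicF.IsInvertible (CohB1.tensorMod L M)) :
    NumR.clR k X (CohB1.tensorMod L M) hLM = NumR.clR k X L hL + NumR.clR k X M hM := by
  have h : PicGrp.cls (CohB1.tensorMod L M) hLM = PicGrp.cls L hL * PicGrp.cls M hM :=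
    Subtype.ext (PicGrp.cls_mul_cls_val hL hM).symm
  rw [NumR.clR, NumR.clR, NumR.clR, NumR.cl, NumR.cl, NumR.cl, h, ofMul_mul, map_add, map_add]

theorem clR_structure (hO : PicF.IsInvertible (Coh.structureModule X)) :
    NumR.clR k X (Coh.structureModule X) hO = 0 := by
  rw [NumR.clR, NumR.cl, show PicGrp.cls (Coh.structureModule X) hO = 1 from PicGrp.cls_structureModule_eq_one,
    ofMul_one, map_zero, map_zero]

theorem clR_pow {L : X.Modules} (hL : PicF.IsInvertible L) (n : ℕ) :
    NumR.clR k X (CohB1.tensorPow L n) (H11Ample.isInvertible_tensorPow hL n) = (n : ℝ) • NumR.clR k X L hL := by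
  induction n with
  | zero => rw [Nat.cast_zero, zero_smul]; exact clR_structure k _
  | succ n ih =>
    refine (clR_tensor k (H11Ample.isInvertible_tensorPow hL n) hL _).trans ?_
    rw [ih, Nat.cast_succ, add_smul, one_smul]

theorem clR_inv {L L' : X.Modules} (hL : PicF.IsInvertible L) (hL' : PicF.IsInvertible L')
    (e : CohB1.tensorMod L L' ≅ Coh.structureModule X) : NumR.clR k X L' hL' = - NumR.clR k X L hL := by
  have h := clR_tensor k hL hL' (H11Ample.isInvertible_tensor hL hL')
  rw [clR_congr k _ (PicLoc.isInvertible_structureModule X) e, clR_structure] at h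
  exact eq_neg_of_add_eq_zero_right h.symm

/-- Integral combinations of classes of modules are classes of modules. -/
theorem exists_clR_sum {ι : Type*} (s : Finset ι) (a : ι → ℤ) (f : ι → X.Modules)
    (hf : ∀ i, PicF.IsInvertible (f i)) :
    ∃ (L : X.Modules) (hL : PicF.IsInvertible L),
      NumR.clR k X L hL = ∑ i ∈ s, (a i : ℝ) • NumR.clR k X (f i) (hf i) := by
  obtain ⟨L, hL, hx⟩ := NumR.exists_eq_cl (∑ i ∈ s, a i • NumR.cl k X (f i) (hf i))
  refine ⟨L, hL, ?_⟩
  rw [NumR.clR_def, ← hx, map_sum]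
  exact Finset.sum_congr rfl fun i _ => by rw [map_zsmul, Int.cast_smul_eq_zsmul, NumR.clR_def]

/-- The class of a module of degree zero against every curve vanishes. -/
theorem clR_eq_zero {L : X.Modules} (hL : PicF.IsInvertible L) (h : Pic13.IsNumEquivZero k X L) :
    NumR.clR k X L hL = 0 := by
  rw [NumR.clR, NumR.cl_eq_zero hL h, map_zero]

/-- A finite basis made of classes of modules. -/
theorem exists_basis [Module.Finite ℝ (NumR.N1R k X)] :
    ∃ (n : ℕ) (c : Module.Basis (Fin n) ℝ (NumR.N1R k X)) (f : Fin n → X.Modules) (hf : ∀ i, PicF.IsInvertible (f i)),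
      ∀ i, c i = NumR.clR k X (f i) (hf i) := by
  obtain ⟨s, hs, hspan, hli⟩ := exists_linearIndependent ℝ
    {x : NumR.N1R k X | ∃ (L : X.Modules) (hL : PicF.IsInvertible L), x = NumR.clR k X L hL}
  rw [NumR.span_clR] at hspan
  let b := Module.Basis.mk hli (by rw [Subtype.range_coe]; exact hspan.ge)
  haveI : Finite s := Module.Finite.finite_basis b
  haveI := Fintype.ofFinite s
  let c := b.reindex (Fintype.equivFin s)
  have hc : ∀ i, c i ∈ {x : NumR.N1R k X | ∃ (L : X.Modules) (hL : PicF.IsInvertible L), x = NumR.clR k X L hL} := by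
    intro i
    simp only [c, b, Module.Basis.reindex_apply, Module.Basis.mk_apply]
    exact hs ((Fintype.equivFin s).symm i).2
  choose f hf hcf using hc
  exact ⟨_, c, f, hf, hcf⟩

variable [IsProper (X ↘ Spec (CommRingCat.of k))] (hdim : topologicalKrullDim X = 2)
  {B : NumR.N1R k X →ₗ[ℝ] NumR.N1R k X →ₗ[ℝ] ℝ} (hB : NumR.IsIntForm₂ k X B)

include hdim hB

theorem B_clR {L M : X.Modules} (hL : PicF.IsInvertible L) (hM : PicF.IsInvertible M) :
    B (NumR.clR k X L hL) (NumR.clR k X M hM) = (pr k L M : ℝ) := by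
  rw [hB L M hL hM, intNum_eq_pr k hdim hL hM]

theorem B_symm (x y : NumR.N1R k X) : B x y = B y x := by
  have h : B = B.flip := by
    refine LinearMap.ext_on NumR.span_clR ?_
    rintro _ ⟨L, hL, rfl⟩
    refine LinearMap.ext_on NumR.span_clR ?_
    rintro _ ⟨M, hM, rfl⟩
    rw [LinearMap.flip_apply, B_clR k hdim hB, B_clR k hdim hB, pr_symm]
  conv_lhs => rw [h]
  rfl

theorem B_ext {y : NumR.N1R k X}
    (h : ∀ (L : X.Modules) (hL : PicF.IsInvertible L), B y (NumR.clR k X L hL) = 0) (z : NumR.N1R k X) :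
    B y z = 0 := by
  have h' : B y = 0 := by
    refine LinearMap.ext_on NumR.span_clR ?_
    rintro _ ⟨L, hL, rfl⟩
    exact h L hL
  rw [h']
  rfl

variable [Smooth (X ↘ Spec (CommRingCat.of k))] [IsIntegral X]

/-- A module orthogonal to all modules is numerically trivial. -/
theorem isNumEquivZero {M : X.Modules} (hM : PicF.IsInvertible M)
    (h : ∀ N : X.Modules, PicF.IsInvertible N → pr k N M = 0) : Pic13.IsNumEquivZero k X M := by
  intro Y i hi hY hd
  haveI := hi
  haveI := hY
  haveI := H28Int.isNoetherian k (X := X)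
  letI : Y.Over (Spec (CommRingCat.of k)) := ⟨i ≫ (X ↘ Spec (CommRingCat.of k))⟩
  haveI : IsProper (Y ↘ Spec (CommRingCat.of k)) := inferInstanceAs (IsProper (i ≫ _))
  have hI := H28Int.isInvertible_idealMod_curve k hdim i hd
  show Pic13.curveDeg k (Y ↘ Spec (CommRingCat.of k)) _ = 0
  rw [H28Int.Curves.curveDeg_eq k hd (H11Ample.isInvertible_pullback i hM),
    ← H28Int.Curves.D_push_affine k i rfl hM,
    ← (H28Int.isAddFn_D k [M] (List.forall_mem_singleton.2 hM)).congr (H28Vert.quotModKerIso i)]
  have h1 := H28Surf.intNum_idealMod k hdim.le i.ker hI hM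
  rw [intNum_eq_pr k hdim hI hM, h _ hI] at h1
  rw [← h1, neg_zero]

theorem nondegenerate [Module.Finite ℝ (NumR.N1R k X)] {y : NumR.N1R k X} (hy : ∀ z, B y z = 0) : y = 0 := by
  classical
  obtain ⟨n, c, f, hf, hc⟩ := exists_basis k (X := X)
  let G : Matrix (Fin n) (Fin n) ℤ := fun i j => pr k (f i) (f j)
  have hG : ∀ i j, B (c i) (c j) = (G i j : ℝ) := fun i j => by rw [hc, hc, B_clR k hdim hB]
  by_contra hy0
  have hdet : G.det = 0 := by
    by_contra hne
    have hneR : (G.map (Int.cast : ℤ → ℝ)).det ≠ 0 := by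
      show ((Int.castRingHom ℝ).mapMatrix G).det ≠ 0
      rw [← RingHom.map_det]
      exact Int.cast_ne_zero.2 hne
    have hv : Matrix.vecMul (fun i => c.repr y i) (G.map (Int.cast : ℤ → ℝ)) = 0 := by
      funext j
      have h1 := hy (c j)
      rw [← c.sum_repr y] at h1
      simp only [map_sum, map_smul, LinearMap.sum_apply, LinearMap.smul_apply, smul_eq_mul, hG] at h1
      simpa [Matrix.vecMul, dotProduct, Matrix.map_apply] using h1
    have h0 := Matrix.eq_zero_of_vecMul_eq_zero hneR hv
    exact hy0 (c.ext_elem fun i => by simpa using congrFun h0 i)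
  obtain ⟨a, ha0, ha⟩ := Matrix.exists_vecMul_eq_zero_iff.2 hdet
  obtain ⟨L, hL, hLc⟩ := exists_clR_sum k Finset.univ a f hf
  have hort : ∀ z, B (NumR.clR k X L hL) z = 0 := by
    intro z
    rw [hLc, ← c.sum_repr z]
    simp only [map_sum, map_smul, LinearMap.sum_apply, LinearMap.smul_apply, smul_eq_mul, ← hc, hG]
    refine Finset.sum_eq_zero fun j _ => ?_
    have h2 := congrFun ha j
    simp only [Matrix.vecMul, dotProduct, Pi.zero_apply] at h2
    rw [show (∑ i, (a i : ℝ) * (G i j : ℝ)) = 0 by exact_mod_cast h2, mul_zero]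
  have hzero := clR_eq_zero k hL (isNumEquivZero k hdim hB hL fun N hN => by
    have h3 := hort (NumR.clR k X N hN)
    rw [B_clR k hdim hB, pr_symm] at h3
    exact_mod_cast h3)
  rw [hLc] at hzero
  simp only [← hc] at hzero
  exact ha0 (funext fun i => by
    have := Fintype.linearIndependent_iff.1 c.linearIndependent (fun i => (a i : ℝ)) hzero i
    exact_mod_cast this)

end Groth.Agent.H28Num
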