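import Groth.Agent.H28Num.Form
import Groth.Agent.H22Alg.NakaiPos
import Mathlib.Analysis.Convex.Topology

/-!
# The ample cone and the nef cone of a surface
-/

set_option autoImplicit false
set_option linter.style.haveILetI false
set_option linter.unusedSectionVars false
set_option backward.isDefEq.respectTransparency.types false
universe u

open CategoryTheory CategoryTheory.Limits AlgebraicGeometry Opposite TopologicalSpace
open Groth.Agent.H28Surf Groth.Agent.H28Int

namespace Groth.Agent.H28Num

variable {X : Scheme.{u}} (k : Type u) [Field k] [X.Over (Spec (CommRingCat.of k))] [PicGrp.Law X]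
  [IsProper (X ↘ Spec (CommRingCat.of k))] [Smooth (X ↘ Spec (CommRingCat.of k))] [IsIntegral X]

/-- Being an integral curve class with its conditions. -/
theorem clR_mem_ampleCone {A : X.Modules} (hA : CohB1.IsAmple A) :
    NumR.clR k X A hA.1 ∈ NumR.ampleCone k X :=
  ConvexCone.subset_hull ⟨A, hA.1, hA, rfl⟩

variable [Module.Finite ℝ (NumR.N1R k X)]

instance instTopologicalAddGroup : IsTopologicalAddGroup (NumR.N1R k X) :=
  IsModuleTopology.topologicalAddGroup ℝ _

/-- An ample class is interior to the ample cone. -/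
theorem clR_mem_interior {A : X.Modules} (hA : CohB1.IsAmple A) :
    NumR.clR k X A hA.1 ∈ interior (NumR.ampleCone k X : Set (NumR.N1R k X)) := by
  classical
  haveI := H28Int.isNoetherian k (X := X)
  haveI : X.IsSeparated := ⟨by
    rw [show terminal.from X = (X ↘ Spec (CommRingCat.of k)) ≫ terminal.from _ from terminal.hom_ext _ _]
    infer_instance⟩
  obtain ⟨d, c, f, hf, hc⟩ := exists_basis k (X := X)
  let a := NumR.clR k X A hA.1
  let K := NumR.ampleCone k X
  have hpm : ∀ i, ∃ N₀ : ℕ, 0 < N₀ ∧ ∀ N : ℕ, N₀ ≤ N → (N : ℝ) • a + c i ∈ K ∧ (N : ℝ) • a - c i ∈ K := by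
    intro i
    obtain ⟨f', hf', ⟨e₀⟩⟩ := H11Sym.exists_inverse (hf i)
    obtain ⟨n₁, hn₁, h₁⟩ := H11Ample.eventually_ample_tensor hA (hf i)
    obtain ⟨n₂, -, h₂⟩ := H11Ample.eventually_ample_tensor hA hf'
    refine ⟨max n₁ n₂, lt_max_of_lt_left hn₁, fun N hN => ⟨?_, ?_⟩⟩
    · have h := clR_mem_ampleCone k (h₁ N (le_of_max_le_left hN)).1
      rwa [clR_tensor k (H11Ample.isInvertible_tensorPow hA.1 N) (hf i), clR_pow k hA.1, ← hc] at h
    · have h := clR_mem_ampleCone k (h₂ N (le_of_max_le_right hN)).1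
      rwa [clR_tensor k (H11Ample.isInvertible_tensorPow hA.1 N) hf', clR_pow k hA.1,
        clR_inv k (hf i) hf' (H10Coh.Tw.commIso _ _ ≪≫ e₀), ← hc, ← sub_eq_add_neg] at h
  choose N₀ hN₀ hN using hpm
  let N : ℕ := Finset.univ.sup N₀ + 1
  have hNle : ∀ i, N₀ i ≤ N := fun i => (Finset.le_sup (Finset.mem_univ i)).trans (Nat.le_succ _)
  have hNpos : (0 : ℝ) < N := Nat.cast_pos.2 (Nat.succ_pos _)
  have key : ∀ (t : Finset (Fin d)) (r : ℝ) (s : Fin d → ℝ), (∑ i ∈ t, |s i|) * N < r →
      r • a + ∑ i ∈ t, s i • c i ∈ K := by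
    intro t
    induction t using Finset.induction_on with
    | empty =>
      intro r s hr
      rw [Finset.sum_empty, zero_mul] at hr
      rw [Finset.sum_empty, add_zero]
      exact K.smul_mem hr (clR_mem_ampleCone k hA)
    | insert j t hj ih =>
      intro r s hr
      rw [Finset.sum_insert hj, add_mul] at hr
      rw [Finset.sum_insert hj]
      have h0 : 0 ≤ |s j| * N := mul_nonneg (abs_nonneg _) hNpos.le
      have h' := ih (r - |s j| * N) s (by linarith)
      rcases lt_trichotomy (s j) 0 with hs | hs | hs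
      · have h1 := K.smul_mem (neg_pos.2 hs) (hN j N (hNle j)).2
        convert K.add_mem h1 h' using 1
        rw [abs_of_neg hs]
        module
      · rw [hs, zero_smul, zero_add]
        exact ih r s (by rw [hs, abs_zero, zero_mul, zero_add] at hr; exact hr)
      · have h1 := K.smul_mem hs (hN j N (hNle j)).1
        convert K.add_mem h1 h' using 1
        rw [abs_of_pos hs]
        module
  have hco : Continuous fun x : NumR.N1R k X => c.equivFun (x - a) :=
    (IsModuleTopology.continuous_of_linearMap c.equivFun.toLinearMap).comp (continuous_id.sub continuous_const)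
  rw [mem_interior]
  refine ⟨{x | (∑ i, |c.equivFun (x - a) i|) * N < 1}, fun x hx => ?_, ?_, ?_⟩
  · have h := key Finset.univ 1 (c.equivFun (x - a)) hx
    have hs : ∑ i, c.equivFun (x - a) i • c i = x - a := c.sum_equivFun (x - a)
    rw [one_smul, hs, add_sub_cancel] at h
    exact h
  · exact isOpen_lt ((continuous_finsetSum _ fun i _ => ((continuous_apply i).comp hco).abs).mul continuous_const)
      continuous_const
  · show (∑ i, |c.equivFun (a - a) i|) * (N : ℝ) < 1
    simp

/-- The ample cone is open. -/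
theorem isOpen_ampleCone : IsOpen (NumR.ampleCone k X : Set (NumR.N1R k X)) := by
  let K := NumR.ampleCone k X
  let K' : ConvexCone ℝ (NumR.N1R k X) :=
    { carrier := interior (K : Set (NumR.N1R k X))
      smul_mem' := fun c hc x hx => by
        have h : (fun y : NumR.N1R k X => c • y) '' interior (K : Set (NumR.N1R k X)) ⊆ interior (K : Set (NumR.N1R k X)) :=
          interior_maximal (Set.image_subset_iff.2 fun y hy => K.smul_mem hc (interior_subset hy))
            ((isOpenMap_smul₀ hc.ne') _ isOpen_interior)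
        exact h ⟨x, hx, rfl⟩
      add_mem' := fun x hx y hy => by
        have h : (fun z : NumR.N1R k X => x + z) '' interior (K : Set (NumR.N1R k X)) ⊆ interior (K : Set (NumR.N1R k X)) :=
          interior_maximal (Set.image_subset_iff.2 fun z hz => K.add_mem (interior_subset hx) (interior_subset hz))
            ((isOpenMap_add_left x) _ isOpen_interior)
        exact h ⟨y, hy, rfl⟩ }
  have hle : K ≤ K' := ConvexCone.hull_min fun x hx => by
    obtain ⟨L, hL, hA, rfl⟩ := hx
    exact clR_mem_interior k hA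
  exact subset_interior_iff_isOpen.1 hle

variable (hdim : topologicalKrullDim X = 2)
  {B : NumR.N1R k X →ₗ[ℝ] NumR.N1R k X →ₗ[ℝ] ℝ} (hB : NumR.IsIntForm₂ k X B)

/-- Rational rays are dense. -/
theorem exists_clR_mem {W : Set (NumR.N1R k X)} (hW : IsOpen W) (hne : W.Nonempty) :
    ∃ (L : X.Modules) (hL : PicF.IsInvertible L) (s : ℝ), 0 < s ∧ s • NumR.clR k X L hL ∈ W := by
  by_contra hno
  push Not at hno
  have hT : (⋃ s : {s : ℝ // 0 < s}, (fun y : NumR.N1R k X => (s : ℝ) • y) ⁻¹' W)ᶜ = Set.univ := by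
    refine eq_univ_of_clR k _ (isOpen_iUnion fun s => hW.preimage (continuous_const_smul _)).isClosed_compl
      (fun x s hs hx => ?_) fun L hL => ?_
    · simp only [Set.mem_compl_iff, Set.mem_iUnion, Set.mem_preimage, not_exists] at hx ⊢
      intro t h
      exact hx ⟨t * s, mul_pos t.2 hs⟩ (by rw [mul_smul]; exact h)
    · simp only [Set.mem_compl_iff, Set.mem_iUnion, Set.mem_preimage, not_exists]
      exact fun t h => hno L hL t t.2 h
  obtain ⟨w, hw⟩ := hne
  have := hT ▸ Set.mem_univ w
  exact this (Set.mem_iUnion.2 ⟨⟨1, one_pos⟩, by simpa using hw⟩)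

include hdim hB

omit [Module.Finite ℝ (NumR.N1R k X)] in
theorem B_curveCl {L : X.Modules} (hL : PicF.IsInvertible L) (I : X.IdealSheafData)
    (hI : PicF.IsInvertible (ClSub.idealMod I)) :
    B (NumR.clR k X L hL) (NumR.curveCl k X I hI) = -(H28Int.D k [L] (ClSub.quotMod I) : ℝ) := by
  rw [NumR.curveCl, map_neg, B_clR k hdim hB hL hI, pr_symm k L, ← intNum_eq_pr k hdim hI hL,
    intNum_idealMod k hdim.le I hI hL]

omit [PicGrp.Law X] [Smooth (X ↘ Spec (CommRingCat.of k))] [Module.Finite ℝ (NumR.N1R k X)] hB in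
/-- The zero locus of a section computes the intersection with all modules. -/
theorem exists_zero_sheaf {M M' : X.Modules} (hM : PicF.IsInvertible M) (hM' : PicF.IsInvertible M')
    (e : CohB1.tensorMod M M' ≅ Coh.structureModule X) {g : Γ(M, ⊤)} (hg : g ≠ 0) :
    ∃ C : X.Modules, Coh.IsCoh C ∧ topologicalKrullDim (CohB1.support C) ≤ ((1 : ℕ) : WithBot ℕ∞) ∧
      ∀ N : X.Modules, PicF.IsInvertible N → D k [M', N] (Coh.structureModule X) = D k [N] C := by
  have hd : topologicalKrullDim X ≤ ((1 + 1 : ℕ) : WithBot ℕ∞) := hdim.le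
  haveI := H28Int.isNoetherian k (X := X)
  let A := Coh.structureModule X
  let μ := H25Euler.mulHom A (H11Tilde.homOfGlobal M g)
  have hA : Coh.IsCoh A := Surface.isCoh_structure k
  have hB' : Coh.IsCoh (CohB1.tensorMod A M) := H11Ample.isCoh_tensor hA hM
  have hiso : ∀ x ∈ H11Ample.gen M g, x ∉ CohB1.support (kernel μ) ∧ x ∉ CohB1.support (cokernel μ) :=
    fun x hx => H25Euler.notMem_support_kernel_cokernel μ (x := x) (H25Euler.isIso_stalk_mulHom A _ hx)
  have hξ := Surface.generic_mem_gen hM hg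
  have hker : IsZero (kernel μ) := isZero_of_mono_push (𝟙 X) (kernel.ι μ ≫ Surface.pushIdIso.inv)
    (hiso (genericPoint X) hξ).1
  haveI : Mono μ := Preadditive.mono_of_isZero_kernel μ hker
  have hC := H10Coh.isCoh_cokernel μ hA.1 hB'
  have hS : (ShortComplex.mk μ (cokernel.π μ) (cokernel.condition μ)).ShortExact :=
    ShortComplex.ShortExact.mk' (ShortComplex.exact_cokernel μ) inferInstance inferInstance
  have hlt : topologicalKrullDim (CohB1.support (cokernel μ)) < ((1 + 1 : ℕ) : WithBot ℕ∞) :=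
    dim_lt_of_notMem (C := Set.univ) (genericPoint_spec X)
      ((Topology.IsInducing.subtypeVal.topologicalKrullDim_le).trans hd)
      (H10Coh.isClosed_support _ hC.2) (fun _ _ => trivial) (hiso _ hξ).2
  have hCd : topologicalKrullDim (CohB1.support (cokernel μ)) ≤ ((1 : ℕ) : WithBot ℕ∞) := by
    rcases hdim' : topologicalKrullDim (CohB1.support (cokernel μ)) with _ | n
    · exact bot_le
    · rw [hdim'] at hlt
      have : n < ((1 + 1 : ℕ) : ℕ∞) := WithBot.coe_lt_coe.1 hlt
      exact WithBot.coe_le_coe.2 (ENat.lt_natCast_add_one_iff.1 (by exact_mod_cast this))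
  refine ⟨cokernel μ, hC, hCd, fun N hN => ?_⟩
  have hl : ∀ A ∈ [N], PicF.IsInvertible A := List.forall_mem_singleton.2 hN
  have hadd := (isAddFn_D k [N] hl).add _ hS hA hB' hC
  change D k [N] (CohB1.tensorMod A M) = D k [N] A + D k [N] (cokernel μ) at hadd
  have hd1 : topologicalKrullDim (CohB1.support A) ≤ ((1 + 1 : ℕ) : WithBot ℕ∞) :=
    (Topology.IsInducing.subtypeVal.topologicalKrullDim_le).trans hd
  have htw : D k [M', N] (CohB1.tensorMod M A) = D k [M', N] A :=
    D_twist k (l := [M', N]) (List.forall_mem_cons.2 ⟨hM', hl⟩) hM hA (by simpa using hd1)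
  rw [← htw]
  show D k [N] (CohB1.tensorMod M A) - D k [N] (CohB1.tensorMod M' (CohB1.tensorMod M A)) = _
  rw [(isAddFn_D k [N] hl).congr (H10Coh.Tw.commIso M A),
    (isAddFn_D k [N] hl).congr ((H10Coh.Tw.assoc M' M A).symm ≪≫
      PicGrp.tensorModIso (H10Coh.Tw.commIso M' M ≪≫ e) (Iso.refl A) ≪≫ H10Coh.Tw.leftUnitIso A)]
  omega

/-- A module with a section is a sum of curves. -/
theorem exists_curves {M : X.Modules} (hM : PicF.IsInvertible M) (hsec : Nontrivial (Coh.HH X M 0)) :
    ∃ (ι : Type u) (t : Finset ι) (C : ι → NumR.Curve X) (m : ι → ℕ),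
      NumR.clR k X M hM = ∑ i ∈ t, (m i : ℝ) • NumR.curveCl k X (C i).1 (C i).2.2.2 := by
  classical
  haveI := H28Int.isNoetherian k (X := X)
  obtain ⟨g, hg⟩ := H28Int.Surface.exists_section hsec
  obtain ⟨M', hM', ⟨e₀⟩⟩ := H11Sym.exists_inverse hM
  let e := H10Coh.Tw.commIso M M' ≪≫ e₀
  obtain ⟨C, hC, hCd, hD⟩ := exists_zero_sheaf k hdim hM hM' e hg
  let P : X → Prop := fun ξ => topologicalKrullDim (closure ({ξ} : Set X)) = ((1 : ℕ) : WithBot ℕ∞)
  let J : X → X.IdealSheafData := fun ξ => Scheme.IdealSheafData.vanishingIdeal (H22Alg.DevLength.cl ξ)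
  have hJ : ∀ ξ, P ξ → IsIntegral (J ξ).subscheme ∧ topologicalKrullDim ((J ξ).support : Set X) = 1 := fun ξ h =>
    ⟨H22Alg.isIntegral_vanishingIdeal_closure ξ, by
      rw [Scheme.IdealSheafData.coe_support_vanishingIdeal]; simpa [P] using h⟩
  have hJi : ∀ ξ, P ξ → PicF.IsInvertible (ClSub.idealMod (J ξ)) := fun ξ h => by
    haveI := (hJ ξ h).1
    exact isInvertible_idealMod k hdim (J ξ) (hJ ξ h).2
  let T := (H22Alg.DevLength.finite_points hC (d := 1) hCd).toFinset
  let ι := {ξ : X // ξ ∈ T}
  have hmem : ∀ i : ι, P i.1 := fun i => ((Set.Finite.mem_toFinset _).1 i.2).2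
  refine ⟨ι, Finset.univ, fun i => ⟨J i.1, (hJ i.1 (hmem i)).1, (hJ i.1 (hmem i)).2, hJi i.1 (hmem i)⟩,
    fun i => (H22Alg.DevLength.len C i.1).toNat, ?_⟩
  rw [← sub_eq_zero]
  refine nondegenerate k hdim hB (B_ext k hdim hB fun N hN => ?_)
  rw [map_sub, map_sum, LinearMap.sub_apply, LinearMap.sum_apply]
  simp only [map_smul, LinearMap.smul_apply, smul_eq_mul]
  have hkey := H22Alg.DevLength.eq_finsum (H28Int.isAddFn_D k [N] (List.forall_mem_singleton.2 hN)) (d := 1)
    (fun G hG h => H28Int.D_eq_zero k [N] (List.forall_mem_singleton.2 hN) G hG (by simpa using h)) hC hCd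
  rw [finsum_eq_sum_of_support_subset _ (s := T) fun ξ hξ => ?_] at hkey
  swap
  · rw [Function.mem_support] at hξ
    simp only [Finset.mem_coe, T, Set.Finite.mem_toFinset]
    split_ifs at hξ with h
    · refine ⟨fun hsub => hξ ?_, h⟩
      simp [H22Alg.DevLength.len, Module.length_eq_zero]
    · exact absurd rfl hξ
  rw [← hD N hN, ← Finset.sum_coe_sort T] at hkey
  have h1 : pr k M' N = - pr k M N := pr_inv_left k hdim hM hM' hN e
  rw [sub_eq_zero, B_clR k hdim hB hM hN]
  have h2 : (pr k M N : ℝ) = - (pr k M' N : ℝ) := by rw [h1]; push_cast; ring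
  rw [h2, show pr k M' N = _ from hkey]
  push_cast
  rw [← Finset.sum_neg_distrib]
  refine Finset.sum_congr rfl fun i _ => ?_
  rw [if_pos (by simpa [P] using hmem i), B_symm k hdim hB _ (NumR.clR k X N hN), B_curveCl k hdim hB hN (J i.1)]
  push_cast
  rw [← mul_neg]
  rfl


omit [Module.Finite ℝ (NumR.N1R k X)] in
/-- Distinct curves meet nonnegatively. -/
theorem curve_nonneg {I J : X.IdealSheafData} (hIi : IsIntegral I.subscheme)
    (hId : topologicalKrullDim (I.support : Set X) = 1) (hJi : IsIntegral J.subscheme)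
    (hJd : topologicalKrullDim (J.support : Set X) = 1) (hI : PicF.IsInvertible (ClSub.idealMod I))
    (hJ : PicF.IsInvertible (ClSub.idealMod J)) (hne : I ≠ J) :
    0 ≤ B (NumR.curveCl k X I hI) (NumR.curveCl k X J hJ) := by
  rw [NumR.curveCl, NumR.curveCl, map_neg, map_neg, LinearMap.neg_apply, neg_neg, B_clR k hdim hB hI hJ,
    ← intNum_eq_pr k hdim hI hJ, intNum_idealMod k hdim.le I hI hJ]
  exact_mod_cast D_idealMod_nonneg k I.subschemeι ((H22Alg.NakaiPos.dim_subscheme I).trans hId).le J hJ
    (genericPoint_notMem_support hId hJd hne)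

omit [Module.Finite ℝ (NumR.N1R k X)] in
theorem clR_ample_curve_pos {A : X.Modules} (hA : CohB1.IsAmple A) {I : X.IdealSheafData}
    (hIi : IsIntegral I.subscheme) (hId : topologicalKrullDim (I.support : Set X) = 1)
    (hI : PicF.IsInvertible (ClSub.idealMod I)) :
    0 < B (NumR.clR k X A hA.1) (NumR.curveCl k X I hI) := by
  have h := (H22Alg.NakaiPos.pos_iff k A).1 (H22Alg.Nakai.pos_of_isAmple k hA) I hIi 1 one_pos (by exact_mod_cast hId)
  rw [pow_one, neg_one_mul, List.replicate_one] at h
  rw [B_curveCl k hdim hB hA.1 I hI]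
  exact_mod_cast h

omit [Module.Finite ℝ (NumR.N1R k X)] in
/-- Classes in the ample cone are positive on curves. -/
theorem curve_pos_of_mem {x : NumR.N1R k X} (hx : x ∈ NumR.ampleCone k X) {I : X.IdealSheafData}
    (hIi : IsIntegral I.subscheme) (hId : topologicalKrullDim (I.support : Set X) = 1)
    (hI : PicF.IsInvertible (ClSub.idealMod I)) : 0 < B x (NumR.curveCl k X I hI) := by
  let P : ConvexCone ℝ (NumR.N1R k X) :=
    { carrier := {y | 0 < B y (NumR.curveCl k X I hI)}
      smul_mem' := fun c hc y hy => by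
        show 0 < B (c • y) _
        rw [map_smul, LinearMap.smul_apply, smul_eq_mul]
        exact mul_pos hc hy
      add_mem' := fun y hy z hz => by
        show 0 < B (y + z) _
        rw [map_add, LinearMap.add_apply]
        exact add_pos hy hz }
  have hle : NumR.ampleCone k X ≤ P := ConvexCone.hull_min fun y hy => by
    obtain ⟨L, hL, hA, rfl⟩ := hy
    exact clR_ample_curve_pos k hdim hB hA hIi hId hI
  exact hle hx

/-- The Nakai criterion for a module on a surface. -/
theorem isAmple_of_criterion {L : X.Modules} (hL : PicF.IsInvertible L)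
    (hsq : 0 < B (NumR.clR k X L hL) (NumR.clR k X L hL))
    (hc : ∀ (I : X.IdealSheafData), IsIntegral I.subscheme → topologicalKrullDim (I.support : Set X) = 1 →
      ∀ hI : PicF.IsInvertible (ClSub.idealMod I), 0 < B (NumR.clR k X L hL) (NumR.curveCl k X I hI)) :
    CohB1.IsAmple L := by
  refine H22Alg.Nakai.isAmple_of_pos k hL fun Z i _ _ d hd0 hd => ?_
  have hdle : topologicalKrullDim Z ≤ topologicalKrullDim X :=
    i.isClosedEmbedding.isEmbedding.isInducing.topologicalKrullDim_le
  rw [hd, hdim] at hdle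
  have hd2 : d ≤ 2 := by exact_mod_cast hdle
  interval_cases d
  · obtain ⟨hJ, hJd⟩ := H22Alg.NakaiPos.ker_data i
    have hJ1 : topologicalKrullDim (i.ker.support : Set X) = 1 := by rw [hJd, hd]; rfl
    have hJi : PicF.IsInvertible (ClSub.idealMod i.ker) := by
      haveI := hJ
      exact isInvertible_idealMod k hdim i.ker hJ1
    have h := hc i.ker hJ hJ1 hJi
    rw [B_curveCl k hdim hB hL] at h
    rw [pow_one, neg_one_mul, List.replicate_one]
    exact_mod_cast h
  · haveI : Surjective i := ⟨by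
      refine Set.range_eq_univ.1 ?_
      by_contra hne
      have hgen : genericPoint X ∉ Set.range i := fun h => hne
        ((genericPoint_spec X).mem_closed_set_iff i.isClosedEmbedding.isClosed_range |>.1 h |> Set.univ_subset_iff.1)
      have hlt := dim_lt_of_notMem (C := Set.univ) (genericPoint_spec X) (n := 2)
        ((Topology.IsInducing.subtypeVal.topologicalKrullDim_le).trans hdim.le)
        i.isClosedEmbedding.isClosed_range (fun _ _ => trivial) hgen
      rw [← i.isClosedEmbedding.isEmbedding.toHomeomorph.isHomeomorph.topologicalKrullDim_eq, hd] at hlt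
      exact lt_irrefl _ hlt⟩
    haveI := isIso_of_isClosedImmersion_of_surjective i
    have hk : i.ker = (𝟙 X : X ⟶ X).ker := by rw [i.ker_eq_bot_of_isIso, (𝟙 X : X ⟶ X).ker_eq_bot_of_isIso]
    have hl2 : ∀ A ∈ List.replicate 2 L, PicF.IsInvertible A := fun A hA => List.eq_of_mem_replicate hA ▸ hL
    rw [hk, H22Alg.Nakai.D_quotMod_id k hl2 (by rw [List.length_replicate, hdim]; rfl), neg_one_sq, one_mul]
    rw [B_clR k hdim hB hL hL] at hsq
    exact_mod_cast hsq

variable [IsAlgClosed k] {H : X.Modules} (hH : CohB1.IsAmple H)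

include hH

/-- The ample cone lies in the positive cone. -/
theorem ampleCone_subset_posCone :
    (NumR.ampleCone k X : Set (NumR.N1R k X)) ⊆ NumR.posCone k X B H hH.1 := by
  have hconv := convex_posCone k hdim hB hH
  have hsmul : ∀ (c : ℝ), 0 < c → ∀ y ∈ NumR.posCone k X B H hH.1, c • y ∈ NumR.posCone k X B H hH.1 := by
    rintro c hc y ⟨h1, h2⟩
    refine ⟨?_, ?_⟩ <;> simp only [map_smul, LinearMap.smul_apply, smul_eq_mul]
    · exact mul_pos hc (mul_pos hc h1)
    · exact mul_pos hc h2
  let P : ConvexCone ℝ (NumR.N1R k X) :=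
    { carrier := NumR.posCone k X B H hH.1
      smul_mem' := fun c hc y hy => hsmul c hc y hy
      add_mem' := fun y hy z hz => by
        have h := hsmul 2 two_pos _ (hconv hy hz (a := 1 / 2) (b := 1 / 2) (by norm_num) (by norm_num) (by norm_num))
        rwa [smul_add, smul_smul, smul_smul, show (2 : ℝ) * (1 / 2) = 1 by norm_num, one_smul, one_smul] at h }
  exact ConvexCone.hull_min (C := P) fun y hy => by
    obtain ⟨L, hL, hA, rfl⟩ := hy
    exact ⟨clR_ample_pos k hdim hB hA hA, clR_ample_pos k hdim hB hA hH⟩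

/-- Positive rational classes are effective. -/
theorem exists_eff {L : X.Modules} (hL : PicF.IsInvertible L)
    (hp : NumR.clR k X L hL ∈ NumR.posCone k X B H hH.1) :
    ∃ (ι : Type u) (t : Finset ι) (C : ι → NumR.Curve X) (a : ι → ℝ), (∀ i, 0 ≤ a i) ∧
      NumR.clR k X L hL = ∑ i ∈ t, a i • NumR.curveCl k X (C i).1 (C i).2.2.2 := by
  obtain ⟨h1, h2⟩ := hp
  rw [B_clR k hdim hB hL hL] at h1
  rw [B_clR k hdim hB hL hH.1] at h2
  obtain ⟨N, hN⟩ := eventually_sections k hdim hH hL (by exact_mod_cast h2) (by exact_mod_cast h1)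
  obtain ⟨ι, t, C, m, hm⟩ := exists_curves k hdim hB (H11Ample.isInvertible_tensorPow hL (N + 1)) (hN _ (Nat.le_succ _))
  have hNR : (0 : ℝ) < ((N + 1 : ℕ) : ℝ) := by positivity
  rw [clR_pow k hL] at hm
  refine ⟨ι, t, C, fun i => ((N + 1 : ℕ) : ℝ)⁻¹ * m i, fun i => by positivity, ?_⟩
  rw [← inv_smul_smul₀ hNR.ne' (NumR.clR k X L hL), hm, Finset.smul_sum]
  exact Finset.sum_congr rfl fun i _ => smul_smul _ _ _

/-- Nef classes meet the positive cone nonnegatively. -/
theorem nef_posCone_nonneg {x y : NumR.N1R k X} (hx : x ∈ NumR.nefCone₂ k X B)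
    (hy : y ∈ NumR.posCone k X B H hH.1) : 0 ≤ B x y := by
  by_contra hneg
  push Not at hneg
  obtain ⟨L, hL, s, hs, ⟨hp1, hp2⟩, hp3⟩ := exists_clR_mem k
    (W := NumR.posCone k X B H hH.1 ∩ {z | B z x < 0})
    ((isOpen_posCone k hH).inter (isOpen_lt (continuous_B_left k x) continuous_const))
    ⟨y, hy, by show B y x < 0; rwa [B_symm k hdim hB y x]⟩
  change B (s • _) x < 0 at hp3
  simp only [map_smul, LinearMap.smul_apply, smul_eq_mul] at hp1 hp2 hp3
  obtain ⟨ι, t, C, a, ha, heq⟩ := exists_eff k hdim hB hH hL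
    ⟨pos_of_mul_pos_right (pos_of_mul_pos_right hp1 hs.le) hs.le, pos_of_mul_pos_right hp2 hs.le⟩
  have h0 : 0 ≤ B (NumR.clR k X L hL) x := by
    rw [B_symm k hdim hB, heq, map_sum]
    exact Finset.sum_nonneg fun i _ => by
      rw [map_smul, smul_eq_mul]
      exact mul_nonneg (ha i) (hx (C i).1 (C i).2.1 (C i).2.2.1 (C i).2.2.2)
  exact absurd hp3 (not_lt.2 (mul_nonneg hs.le h0))

/-- Nef classes have nonnegative square. -/
theorem nef_self_nonneg {x : NumR.N1R k X} (hx : x ∈ NumR.nefCone₂ k X B) : 0 ≤ B x x := by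
  by_contra hneg
  push Not at hneg
  let h := NumR.clR k X H hH.1
  have hhh : 0 < B h h := clR_ample_pos k hdim hB hH hH
  let D := Real.sqrt ((B x h) ^ 2 - B x x * B h h)
  have hD : D ^ 2 = (B x h) ^ 2 - B x x * B h h := Real.sq_sqrt (by nlinarith)
  have hD0 : 0 ≤ D := Real.sqrt_nonneg _
  have hq : 0 ≤ B x h := by
    have h' := nef_posCone_nonneg k hdim hB hH hx (y := h) ⟨hhh, hhh⟩
    exact h'
  have hDq : B x h < D := by nlinarith
  have key : ∀ e : ℝ, 0 < e → 0 ≤ B x x + (-(B x h) + D + e) / B h h * B x h := by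
    intro e he
    let t := (-(B x h) + D + e) / B h h
    have ht : t * B h h = -(B x h) + D + e := div_mul_cancel₀ _ hhh.ne'
    have hmem : x + t • h ∈ NumR.posCone k X B H hH.1 := by
      refine ⟨?_, ?_⟩ <;>
        simp only [map_add, map_smul, LinearMap.add_apply, LinearMap.smul_apply, smul_eq_mul,
          B_symm k hdim hB h x]
      · refine pos_of_mul_pos_left (b := B h h) ?_ hhh.le
        nlinarith
      · change 0 < B x h + t * B h h
        rw [ht]
        linarith
    have := nef_posCone_nonneg k hdim hB hH hx hmem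
    simpa only [map_add, map_smul, smul_eq_mul] using this
  have h1 : 0 ≤ B x x + (-(B x h) + D) / B h h * B x h := by
    refine le_of_forall_pos_le_add fun ε hε => ?_
    have h2 := key (ε * B h h / (B x h + 1)) (by positivity)
    have h3 : ε * B h h / (B x h + 1) / B h h * B x h ≤ ε := by
      rw [div_right_comm, mul_div_assoc, div_self hhh.ne', mul_one, div_mul_eq_mul_div, div_le_iff₀ (by linarith)]
      nlinarith
    rw [add_div, add_mul, ← add_assoc] at h2
    linarith
  rw [div_mul_eq_mul_div, ← sub_le_iff_le_add', zero_sub, le_div_iff₀ hhh] at h1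
  nlinarith [mul_pos (sub_pos.2 hDq) (sub_pos.2 hDq)]

/-- The Nakai criterion for real classes. -/
theorem mem_ampleCone_of_criterion {x : NumR.N1R k X} (hxx : 0 < B x x)
    (hc : ∀ (I : X.IdealSheafData), IsIntegral I.subscheme → topologicalKrullDim (I.support : Set X) = 1 →
      ∀ hI : PicF.IsInvertible (ClSub.idealMod I), 0 < B x (NumR.curveCl k X I hI)) :
    x ∈ NumR.ampleCone k X := by
  let h := NumR.clR k X H hH.1
  let K : Set (NumR.N1R k X) := NumR.ampleCone k X
  have hK : IsOpen K := isOpen_ampleCone k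
  have hxh : 0 < B x h := by
    rcases (nef_posCone_nonneg k hdim hB hH (x := x) (fun I a b c => (hc I a b c).le) (y := h)
      ⟨clR_ample_pos k hdim hB hH hH, clR_ample_pos k hdim hB hH hH⟩).lt_or_eq with h0 | h0
    · exact h0
    · exact absurd hxx (not_lt.2 (nonpos_of_orth k hdim hB hH h0.symm))
  have hxP : x ∈ NumR.posCone k X B H hH.1 := ⟨hxx, hxh⟩
  have hne : (NumR.posCone k X B H hH.1 ∩ (fun y : NumR.N1R k X => x - y) ⁻¹' K).Nonempty := by
    have hcont : Filter.Tendsto (fun t : ℝ => x - t • h) (nhdsWithin 0 (Set.Ioi 0)) (nhds x) := by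
      have : Continuous fun t : ℝ => x - t • h := continuous_const.sub ((by fun_prop : Continuous fun t : ℝ => t • h))
      simpa using (this.tendsto 0).mono_left nhdsWithin_le_nhds
    obtain ⟨t, ht, ht0⟩ := ((hcont.eventually ((isOpen_posCone k hH).mem_nhds hxP)).and
      self_mem_nhdsWithin).exists
    refine ⟨x - t • h, ht, ?_⟩
    show x - (x - t • h) ∈ K
    rw [sub_sub_cancel]
    exact (NumR.ampleCone k X).smul_mem (Set.mem_Ioi.1 ht0) (clR_mem_ampleCone k hH)
  obtain ⟨L, hL, s, hs, ⟨hp1, hp2⟩, hp3⟩ := exists_clR_mem k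
    ((isOpen_posCone k hH).inter (hK.preimage (continuous_const.sub continuous_id))) hne
  simp only [map_smul, LinearMap.smul_apply, smul_eq_mul] at hp1 hp2
  change x - s • NumR.clR k X L hL ∈ K at hp3
  obtain ⟨ι, t, C, a, ha, heq⟩ := exists_eff k hdim hB hH hL
    ⟨pos_of_mul_pos_right (pos_of_mul_pos_right hp1 hs.le) hs.le, pos_of_mul_pos_right hp2 hs.le⟩
  let W : Set (NumR.N1R k X) := {y | 0 < B y y} ∩ (fun y => y - s • NumR.clR k X L hL) ⁻¹' K ∩
    ⋂ i ∈ t, {y | 0 < B y (NumR.curveCl k X (C i).1 (C i).2.2.2)}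
  have hW : IsOpen W := ((isOpen_lt continuous_const (continuous_B_self k)).inter
    (hK.preimage (continuous_id.sub continuous_const))).inter
    (isOpen_biInter_finset fun i _ => isOpen_lt continuous_const (continuous_B_left k _))
  have hxW : x ∈ W := ⟨⟨hxx, hp3⟩, Set.mem_iInter₂.2 fun i _ => hc (C i).1 (C i).2.1 (C i).2.2.1 (C i).2.2.2⟩
  have hpos : ∀ y ∈ W, ∀ (I : X.IdealSheafData), IsIntegral I.subscheme →
      topologicalKrullDim (I.support : Set X) = 1 → ∀ hI : PicF.IsInvertible (ClSub.idealMod I),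
      0 < B y (NumR.curveCl k X I hI) := by
    rintro y ⟨⟨-, hy⟩, hyC⟩ I hIi hId hI
    by_cases hin : ∃ i ∈ t, (C i).1 = I
    · obtain ⟨i, hi, rfl⟩ := hin
      exact Set.mem_iInter₂.1 hyC i hi
    · push Not at hin
      have h1 := curve_pos_of_mem k hdim hB (show y - s • NumR.clR k X L hL ∈ NumR.ampleCone k X from hy) hIi hId hI
      have h2 : 0 ≤ B (NumR.clR k X L hL) (NumR.curveCl k X I hI) := by
        rw [heq, map_sum, LinearMap.sum_apply]
        exact Finset.sum_nonneg fun i hi => by
          rw [map_smul, LinearMap.smul_apply, smul_eq_mul]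
          exact mul_nonneg (ha i) (curve_nonneg k hdim hB (C i).2.1 (C i).2.2.1 hIi hId (C i).2.2.2 hI (hin i hi))
      simp only [map_sub, map_smul, LinearMap.sub_apply, LinearMap.smul_apply, smul_eq_mul] at h1
      nlinarith
  have hsub : W ⊆ closure K := by
    intro y hy
    rw [mem_closure_iff]
    intro O hO hyO
    obtain ⟨L', hL', s', hs', hO', hW'⟩ := exists_clR_mem k (hO.inter hW) ⟨y, hyO, hy⟩
    refine ⟨_, hO', (NumR.ampleCone k X).smul_mem hs' (clR_mem_ampleCone k (isAmple_of_criterion k hdim hB hL' ?_ ?_))⟩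
    · have h1 : 0 < B (s' • NumR.clR k X L' hL') (s' • NumR.clR k X L' hL') := hW'.1.1
      simp only [map_smul, LinearMap.smul_apply, smul_eq_mul] at h1
      exact pos_of_mul_pos_right (pos_of_mul_pos_right h1 hs'.le) hs'.le
    · intro I hIi hId hI
      have h1 := hpos _ hW' I hIi hId hI
      simp only [map_smul, LinearMap.smul_apply, smul_eq_mul] at h1
      exact pos_of_mul_pos_right h1 hs'.le
  have hKne : (interior K).Nonempty := ⟨h, clR_mem_interior k hH⟩
  have := interior_maximal hsub hW hxW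
  rw [(NumR.ampleCone k X).convex.interior_closure_eq_interior_of_nonempty_interior hKne] at this
  exact interior_subset this

/-- A nef class plus an ample one is ample. -/
theorem nef_add_mem {x y : NumR.N1R k X} (hx : x ∈ NumR.nefCone₂ k X B) (hy : y ∈ NumR.ampleCone k X) :
    x + y ∈ NumR.ampleCone k X := by
  have hyP := ampleCone_subset_posCone k hdim hB hH hy
  refine mem_ampleCone_of_criterion k hdim hB hH ?_ fun I a b c => ?_
  · have h1 := nef_self_nonneg k hdim hB hH hx
    have h2 := nef_posCone_nonneg k hdim hB hH hx hyP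
    simp only [map_add, LinearMap.add_apply, B_symm k hdim hB y x]
    linarith [hyP.1]
  · simp only [map_add, LinearMap.add_apply]
    exact add_pos_of_nonneg_of_pos (hx I a b c) (curve_pos_of_mem k hdim hB hy a b c)

/-- The closure of the ample cone is the nef cone. -/
theorem mem_closure_of_nef {x : NumR.N1R k X} (hx : x ∈ NumR.nefCone₂ k X B) :
    x ∈ closure (NumR.ampleCone k X : Set (NumR.N1R k X)) := by
  let h := NumR.clR k X H hH.1
  have hcont : Filter.Tendsto (fun t : ℝ => x + t • h) (nhdsWithin 0 (Set.Ioi 0)) (nhds x) := by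
    have : Continuous fun t : ℝ => x + t • h := continuous_const.add ((by fun_prop : Continuous fun t : ℝ => t • h))
    simpa using (this.tendsto 0).mono_left nhdsWithin_le_nhds
  exact mem_closure_of_tendsto hcont (Filter.eventually_of_mem self_mem_nhdsWithin fun t ht =>
    nef_add_mem k hdim hB hH hx ((NumR.ampleCone k X).smul_mem ht (clR_mem_ampleCone k hH)))

theorem nef_of_mem_closure {x : NumR.N1R k X} (hx : x ∈ closure (NumR.ampleCone k X : Set (NumR.N1R k X))) :
    x ∈ NumR.nefCone₂ k X B := fun I a b c =>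
  closure_minimal (fun y hy => show y ∈ {y | 0 ≤ B y (NumR.curveCl k X I c)} from (curve_pos_of_mem k hdim hB hy a b c).le)
    (isClosed_le continuous_const (continuous_B_left k _)) hx

end Groth.Agent.H28Num
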