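import Groth.Agent.H28Num.Cone
import Mathlib.LinearAlgebra.Dimension.Finite
import Mathlib.RingTheory.Finiteness.Basic

/-!
# Ampleness of real divisors is numerical
-/

set_option autoImplicit false
set_option linter.style.haveILetI false
set_option linter.unusedSectionVars false
set_option backward.isDefEq.respectTransparency.types false
universe u

open CategoryTheory CategoryTheory.Limits AlgebraicGeometry Opposite TopologicalSpace
open Groth.Agent.H28Surf Groth.Agent.H28Int

namespace Groth.Agent.H28Num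

/-- Finitely many reals are integral combinations of rationally independent ones. -/
theorem exists_int_coords {ι : Type*} (s : Finset ι) (N : ι → ℝ) :
    ∃ (d : ℕ) (β : Fin d → ℝ) (z : Fin d → ι → ℤ), (∀ i ∈ s, N i = ∑ j, β j * z j i) ∧
      ∀ m : Fin d → ℤ, ∑ j, β j * m j = 0 → m = 0 := by
  classical
  let V := Submodule.span ℚ (N '' (s : Set ι))
  haveI : Module.Finite ℚ V := Module.Finite.span_of_finite ℚ (s.finite_toSet.image N)
  let b := Module.finBasis ℚ V
  let q : Fin (Module.finrank ℚ V) → ι → ℚ := fun j i =>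
    if h : i ∈ s then b.repr ⟨N i, Submodule.subset_span ⟨i, h, rfl⟩⟩ j else 0
  let K : ℕ := ∏ i ∈ s, ∏ j, (q j i).den
  have hK : 0 < K := Finset.prod_pos fun i _ => Finset.prod_pos fun j _ => (q j i).den_pos
  have hz : ∀ j i, ∃ a : ℤ, i ∈ s → (q j i : ℚ) = (K : ℚ)⁻¹ * a := fun j i => by
    by_cases hi : i ∈ s
    · obtain ⟨m, hm⟩ := (Finset.dvd_prod_of_mem (fun j => (q j i).den) (Finset.mem_univ j)).trans
        (Finset.dvd_prod_of_mem (fun i => ∏ j, (q j i).den) hi)
      refine ⟨(q j i).num * m, fun _ => ?_⟩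
      rw [eq_inv_mul_iff_mul_eq₀ (Nat.cast_ne_zero.2 hK.ne'), show (K : ℚ) = ((q j i).den : ℚ) * m by exact_mod_cast hm,
        mul_right_comm, mul_comm ((q j i).den : ℚ), Rat.mul_den_eq_num]
      push_cast
      ring
    · exact ⟨0, fun h => absurd h hi⟩
  choose z hz using hz
  refine ⟨_, fun j => (K : ℝ)⁻¹ * (b j : ℝ), z, fun i hi => ?_, fun m hm => ?_⟩
  · have h := congrArg Subtype.val (b.sum_repr ⟨N i, Submodule.subset_span ⟨i, hi, rfl⟩⟩)
    simp only [Submodule.coe_sum, Submodule.coe_smul, Rat.smul_def] at h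
    rw [← h]
    refine Finset.sum_congr rfl fun j _ => ?_
    have h1 : (b.repr ⟨N i, Submodule.subset_span ⟨i, hi, rfl⟩⟩ j : ℚ) = (K : ℚ)⁻¹ * z j i := by
      have := hz j i hi
      simpa only [q, dif_pos hi] using this
    rw [h1]
    push_cast
    ring
  · have h0 : ∑ j, (m j : ℚ) • b j = 0 := by
      apply Subtype.ext
      simp only [Submodule.coe_sum, Submodule.coe_smul, Rat.smul_def, Submodule.coe_zero, Rat.cast_intCast]
      have hKR : ((K : ℝ))⁻¹ ≠ 0 := inv_ne_zero (Nat.cast_ne_zero.2 hK.ne')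
      refine (mul_eq_zero.1 (?_ : (K : ℝ)⁻¹ * ∑ j, (m j : ℝ) * (b j : ℝ) = 0)).resolve_left hKR
      rw [← hm, Finset.mul_sum]
      exact Finset.sum_congr rfl fun j _ => by ring
    funext j
    exact Int.cast_eq_zero.1 (Fintype.linearIndependent_iff.1 b.linearIndependent _ h0 j)

variable {X : Scheme.{u}} (k : Type u) [Field k] [X.Over (Spec (CommRingCat.of k))] [PicGrp.Law X]
  [IsProper (X ↘ Spec (CommRingCat.of k))] [Smooth (X ↘ Spec (CommRingCat.of k))] [IsIntegral X]
  (hdim : topologicalKrullDim X = 2)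
  {B : NumR.N1R k X →ₗ[ℝ] NumR.N1R k X →ₗ[ℝ] ℝ} (hB : NumR.IsIntForm₂ k X B)

omit [IsProper (X ↘ Spec (CommRingCat.of k))] [Smooth (X ↘ Spec (CommRingCat.of k))] [IsIntegral X] in
theorem divClR_toR_single (C : NumR.Curve X) :
    NumR.divClR k X (NumR.CDiv.toR X (Finsupp.single C 1)) = NumR.curveCl k X C.1 C.2.2.2 := by
  simp [NumR.CDiv.toR, NumR.divClR]

omit [IsProper (X ↘ Spec (CommRingCat.of k))] [Smooth (X ↘ Spec (CommRingCat.of k))] [IsIntegral X] in
theorem exists_module (E : NumR.CDiv X) :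
    ∃ (L : X.Modules) (hL : PicF.IsInvertible L), Additive.ofMul (PicGrp.cls L hL) = NumR.divCl X E ∧
      NumR.divClR k X (NumR.CDiv.toR X E) = NumR.clR k X L hL := by
  obtain ⟨L, hL, h⟩ := PicGrp.exists_eq_cls (Additive.toMul (NumR.divCl X E))
  refine ⟨L, hL, ?_, ?_⟩
  · rw [← h]; rfl
  · rw [NumR.divClR_toR, NumR.clR_def]
    rw [show NumR.divCl X E = Additive.ofMul (PicGrp.cls L hL) from by rw [← h]; rfl]
    rfl

include hdim hB

/-- Ampleness only depends on the intersection numbers with curves. -/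
theorem isAmple_congr {L L' : X.Modules} (hA : CohB1.IsAmple L) (hL : PicF.IsInvertible L) (hL' : PicF.IsInvertible L')
    (h : ∀ C : NumR.Curve X, B (NumR.clR k X L hL) (NumR.curveCl k X C.1 C.2.2.2) =
      B (NumR.clR k X L' hL') (NumR.curveCl k X C.1 C.2.2.2)) : CohB1.IsAmple L' := by
  refine H22Alg.Nakai.isAmple_of_pos k hL' (H22Alg.NakaiPos.pos_congr k hL hL' (H22Alg.NakaiPos.eqOn_one k hL hL'
    fun C hCi hCd => ?_) (H22Alg.Nakai.pos_of_isAmple k hA))
  haveI := hCi
  have hI := isInvertible_idealMod k hdim C hCd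
  have h1 := h ⟨C, hCi, hCd, hI⟩
  rw [B_curveCl k hdim hB hL, B_curveCl k hdim hB hL'] at h1
  have h2 : D k [L] (ClSub.quotMod C) = D k [L'] (ClSub.quotMod C) := by exact_mod_cast neg_inj.1 h1
  have e1 := H22Alg.NakaiPos.deg_eq k L C
  have e2 := H22Alg.NakaiPos.deg_eq k L' C
  rw [List.replicate_one, h2] at e1
  rw [List.replicate_one] at e2
  linarith

theorem isAmpleRDiv_add {D : NumR.CDivR X} (hD : NumR.IsAmpleRDiv X D) (Z : NumR.CDiv X)
    (hZ : ∀ E : NumR.CDiv X, B (NumR.divClR k X (NumR.CDiv.toR X Z)) (NumR.divClR k X (NumR.CDiv.toR X E)) = 0)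
    (c : ℝ) : NumR.IsAmpleRDiv X (D + c • NumR.CDiv.toR X Z) := by
  obtain ⟨n, E, t, hn, ht, hE, rfl⟩ := hD
  obtain ⟨n, rfl⟩ : ∃ m, n = m + 1 := ⟨n - 1, by omega⟩
  have hamp : ∀ m : ℤ, ∃ (L : X.Modules) (hL : PicF.IsInvertible L), CohB1.IsAmple L ∧
      Additive.ofMul (PicGrp.cls L hL) = NumR.divCl X (E 0 + m • Z) := by
    intro m
    obtain ⟨L, hL, hA, hcl⟩ := hE 0
    obtain ⟨L', hL', hcl', hr⟩ := exists_module k (E 0 + m • Z)
    refine ⟨L', hL', isAmple_congr k hdim hB hA hL hL' fun C => ?_, hcl'⟩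
    have hr0 : NumR.divClR k X (NumR.CDiv.toR X (E 0)) = NumR.clR k X L hL := by
      rw [NumR.divClR_toR, NumR.clR_def, ← hcl]
      rfl
    rw [← hr0, ← hr, map_add, map_zsmul, map_add, map_zsmul, map_add, LinearMap.add_apply, map_zsmul,
      LinearMap.smul_apply, ← divClR_toR_single, hZ, smul_zero, add_zero]
  obtain ⟨a, ha⟩ := exists_nat_gt (|c| / t 0)
  have ha0 : (0 : ℝ) < a := lt_of_le_of_lt (div_nonneg (abs_nonneg _) (ht 0).le) ha
  have hca : |c| < a * t 0 := (div_lt_iff₀ (ht 0)).1 ha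
  have hca' : |c / a| < t 0 := by rw [abs_div, abs_of_pos ha0, div_lt_iff₀ ha0]; linarith
  obtain ⟨hl, hr⟩ := abs_lt.1 hca'
  refine ⟨n + 1 + 1, Fin.cons (E 0 + (-(a : ℤ)) • Z) (Fin.cons (E 0 + (a : ℤ) • Z) fun i => E i.succ),
    Fin.cons ((t 0 - c / a) / 2) (Fin.cons ((t 0 + c / a) / 2) fun i => t i.succ), by omega, ?_, ?_, ?_⟩
  · refine Fin.cases ?_ (Fin.cases ?_ fun i => ?_)
    · simp only [Fin.cons_zero]; linarith
    · simp only [Fin.cons_succ, Fin.cons_zero]; linarith
    · simp only [Fin.cons_succ]; exact ht _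
  · refine Fin.cases ?_ (Fin.cases ?_ fun i => ?_)
    · simpa only [Fin.cons_zero] using hamp _
    · simpa only [Fin.cons_succ, Fin.cons_zero] using hamp _
    · simp only [Fin.cons_succ]; exact hE _
  · conv_lhs => rw [Fin.sum_univ_succ]
    rw [Fin.sum_univ_succ, Fin.sum_univ_succ]
    simp only [Fin.cons_succ, Fin.cons_zero, map_add, map_zsmul, ← Int.cast_smul_eq_zsmul ℝ]
    have hc : c = ((t 0 + c / a) / 2) * (a : ℝ) - ((t 0 - c / a) / 2) * (a : ℝ) := by
      field_simp
      ring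
    conv_lhs => rw [hc]
    push_cast
    module

theorem isAmpleRDiv_of_numTrivial {D D' : NumR.CDivR X} (hD : NumR.IsAmpleRDiv X D)
    (h : NumR.IsNumTrivialRDiv k X B (D' - D)) : NumR.IsAmpleRDiv X D' := by
  classical
  obtain ⟨d, β, z, hz, hind⟩ := exists_int_coords (D' - D).support (fun C => (D' - D) C)
  let Z : Fin d → NumR.CDiv X := fun j =>
    Finsupp.onFinset (D' - D).support (fun C => if C ∈ (D' - D).support then z j C else 0)
      fun C hC => by by_contra hn; exact hC (if_neg hn)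
  have hsum : D' - D = ∑ j, β j • NumR.CDiv.toR X (Z j) := by
    ext C
    simp only [Finsupp.coe_finsetSum, Finset.sum_apply, Finsupp.smul_apply, smul_eq_mul, NumR.CDiv.toR,
      Finsupp.mapRange.addMonoidHom_apply, Finsupp.mapRange_apply, Z, Finsupp.onFinset_apply, Int.coe_castAddHom]
    by_cases hC : C ∈ (D' - D).support
    · simp only [if_pos hC]
      exact hz C hC
    · simp only [if_neg hC, Int.cast_zero, mul_zero, Finset.sum_const_zero]
      exact Finsupp.notMem_support_iff.1 hC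
  have hZ : ∀ j (E : NumR.CDiv X),
      B (NumR.divClR k X (NumR.CDiv.toR X (Z j))) (NumR.divClR k X (NumR.CDiv.toR X E)) = 0 := by
    intro j E
    have hint : ∀ j, ∃ m : ℤ, B (NumR.divClR k X (NumR.CDiv.toR X (Z j))) (NumR.divClR k X (NumR.CDiv.toR X E)) = m := by
      intro j
      obtain ⟨L, hL, -, hr⟩ := exists_module k (Z j)
      obtain ⟨M, hM, -, hr'⟩ := exists_module k E
      exact ⟨_, by rw [hr, hr', hB L M hL hM]⟩
    choose m hm using hint
    have h0 := h E
    rw [hsum, map_sum, map_sum, LinearMap.sum_apply] at h0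
    simp only [map_smul, LinearMap.smul_apply, smul_eq_mul, hm] at h0
    rw [hm, hind m h0, Pi.zero_apply, Int.cast_zero]
  have key : ∀ s : Finset (Fin d), NumR.IsAmpleRDiv X (D + ∑ j ∈ s, β j • NumR.CDiv.toR X (Z j)) := by
    intro s
    induction s using Finset.induction_on with
    | empty => simpa using hD
    | insert j s hj ih =>
      rw [Finset.sum_insert hj, add_comm (β j • _), ← add_assoc]
      exact isAmpleRDiv_add k hdim hB ih (Z j) (hZ j) (β j)
  have := key Finset.univ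
  rwa [← hsum, add_sub_cancel] at this

end Groth.Agent.H28Num
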