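import Groth.Agent.H28Num.Basic
import Mathlib.Topology.NhdsWithin

/-!
# The signature of the intersection form and the positive cone
-/

set_option autoImplicit false
set_option linter.style.haveILetI false
set_option linter.unusedSectionVars false
set_option backward.isDefEq.respectTransparency.types false
universe u

open CategoryTheory CategoryTheory.Limits AlgebraicGeometry Opposite TopologicalSpace
open Groth.Agent.H28Surf

namespace Groth.Agent.H28Num

variable {X : Scheme.{u}} (k : Type u) [Field k] [X.Over (Spec (CommRingCat.of k))] [PicGrp.Law X]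
  [IsProper (X ↘ Spec (CommRingCat.of k))] [Smooth (X ↘ Spec (CommRingCat.of k))] [IsIntegral X]
  (hdim : topologicalKrullDim X = 2)
  {B : NumR.N1R k X →ₗ[ℝ] NumR.N1R k X →ₗ[ℝ] ℝ} (hB : NumR.IsIntForm₂ k X B)

include hdim

/-- Ample classes meet each other positively. -/
theorem pr_ample_pos {A A₂ : X.Modules} (hA : CohB1.IsAmple A) (hA₂ : CohB1.IsAmple A₂) : 0 < pr k A A₂ := by
  haveI := H28Int.isNoetherian k (X := X)
  have hAi := (H11Ample.isAmple_iff.1 hA).1
  have hA₂i := (H11Ample.isAmple_iff.1 hA₂).1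
  obtain ⟨A', hA', ⟨e₀⟩⟩ := H11Sym.exists_inverse hAi
  obtain ⟨B', hB', ⟨f₀⟩⟩ := H11Sym.exists_inverse hA₂i
  let e := H10Coh.Tw.commIso A A' ≪≫ e₀
  let f := H10Coh.Tw.commIso A₂ B' ≪≫ f₀
  have hflip : pr k A' B' = pr k A A₂ := by
    rw [pr_inv_left k hdim hAi hA' hB' e, pr_symm k A B', pr_inv_left k hdim hA₂i hB' hAi f, neg_neg, pr_symm k A₂ A]
  rw [← hflip]
  refine (H28Int.pos_of_ample k [A', B'] (fun M hM => ?_) _ (H10Coh.isCoh_structureModule' X)
    (dim_support_structure_le k hdim)).2 ⟨genericPoint X, ?_, ?_⟩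
  · simp only [List.mem_cons, List.mem_singleton, List.not_mem_nil, or_false] at hM
    rcases hM with rfl | rfl
    · exact ⟨A, hA, ⟨e⟩⟩
    · exact ⟨A₂, hA₂, ⟨f⟩⟩
  · rw [H28Int.Surface.support_structure k]; trivial
  · rw [H28Int.Surface.cdim_genericPoint, hdim]; rfl

include hB

theorem clR_ample_pos {A A₂ : X.Modules} (hA : CohB1.IsAmple A) (hA₂ : CohB1.IsAmple A₂) :
    0 < B (NumR.clR k X A hA.1) (NumR.clR k X A₂ hA₂.1) := by
  rw [B_clR k hdim hB]
  exact_mod_cast pr_ample_pos k hdim hA hA₂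

variable [Module.Finite ℝ (NumR.N1R k X)]

omit hdim hB in
theorem continuous_B : Continuous fun p : NumR.N1R k X × NumR.N1R k X => B p.1 p.2 :=
  IsModuleTopology.continuous_bilinear_of_finite_left B

omit hdim hB in
theorem continuous_B_self : Continuous fun x : NumR.N1R k X => B x x :=
  (continuous_B k (B := B)).comp (continuous_id.prodMk continuous_id)

omit hdim hB in
theorem continuous_B_left (z : NumR.N1R k X) : Continuous fun x : NumR.N1R k X => B x z :=
  (continuous_B k (B := B)).comp (continuous_id.prodMk continuous_const)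

omit [Smooth (X ↘ Spec (CommRingCat.of k))] [IsIntegral X] hdim hB in
/-- A closed set stable under scaling which contains the classes of modules is everything. -/
theorem eq_univ_of_clR (T : Set (NumR.N1R k X)) (hT : IsClosed T)
    (hcone : ∀ (x : NumR.N1R k X) (s : ℝ), 0 < s → x ∈ T → s • x ∈ T)
    (hint : ∀ (L : X.Modules) (hL : PicF.IsInvertible L), NumR.clR k X L hL ∈ T) : T = Set.univ := by
  classical
  obtain ⟨n, c, f, hf, hc⟩ := exists_basis k (X := X)
  let e := c.equivFun.symm
  have he : Continuous e := IsModuleTopology.continuous_of_linearMap e.toLinearMap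
  have hq : ∀ q : Fin n → ℚ, e (fun i => (q i : ℝ)) ∈ T := by
    intro q
    let N : ℕ := ∏ i, (q i).den
    have hN : 0 < N := Finset.prod_pos fun i _ => (q i).den_pos
    have ha : ∀ i, ∃ a : ℤ, (q i : ℝ) = (N : ℝ)⁻¹ * a := fun i => by
      obtain ⟨m, hm⟩ := Finset.dvd_prod_of_mem (fun j => (q j).den) (Finset.mem_univ i)
      refine ⟨(q i).num * m, ?_⟩
      have hNR : (N : ℝ) ≠ 0 := Nat.cast_ne_zero.2 hN.ne'
      rw [eq_inv_mul_iff_mul_eq₀ hNR, show (N : ℝ) = ((q i).den : ℝ) * m by exact_mod_cast hm, Rat.cast_def]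
      have hd : ((q i).den : ℝ) ≠ 0 := Nat.cast_ne_zero.2 (q i).den_pos.ne'
      push_cast
      field_simp
    choose a ha using ha
    obtain ⟨L, hL, hLc⟩ := exists_clR_sum k Finset.univ a f hf
    have h1 : e (fun i => (q i : ℝ)) = (N : ℝ)⁻¹ • NumR.clR k X L hL := by
      rw [hLc, Module.Basis.equivFun_symm_apply, Finset.smul_sum]
      exact Finset.sum_congr rfl fun i _ => by rw [smul_smul, ← ha, hc]
    rw [h1]
    exact hcone _ _ (inv_pos.2 (Nat.cast_pos.2 hN)) (hint L hL)
  have hall : ∀ r, e r ∈ T := fun r =>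
    isClosed_property (DenseRange.piMap fun _ : Fin n => Rat.denseRange_cast (𝕜 := ℝ)) (hT.preimage he) hq r
  exact Set.eq_univ_of_forall fun x => by simpa [e] using hall (c.equivFun x)

variable [IsAlgClosed k] {H : X.Modules} (hH : CohB1.IsAmple H)

include hH

/-- The Hodge inequality. -/
theorem hodge_ineq (x : NumR.N1R k X) :
    B (NumR.clR k X H hH.1) (NumR.clR k X H hH.1) * B x x ≤ (B x (NumR.clR k X H hH.1)) ^ 2 := by
  let h := NumR.clR k X H hH.1
  suffices hT : {z : NumR.N1R k X | B h h * B z z ≤ (B z h) ^ 2} = Set.univ from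
    show x ∈ {z : NumR.N1R k X | B h h * B z z ≤ (B z h) ^ 2} from hT ▸ trivial
  refine eq_univ_of_clR k _ (isClosed_le ((continuous_const).mul (continuous_B_self k))
    ((continuous_B_left k h).pow 2)) (fun z s hs hz => ?_) fun L hL => ?_
  · show B h h * B (s • z) (s • z) ≤ (B (s • z) h) ^ 2
    simp only [map_smul, LinearMap.smul_apply, smul_eq_mul]
    have := mul_le_mul_of_nonneg_left (show B h h * B z z ≤ (B z h) ^ 2 from hz) (sq_nonneg s)
    nlinarith
  obtain ⟨N, hN, hNc⟩ := exists_clR_sum k (Finset.univ : Finset (Fin 2)) ![pr k H H, -pr k L H] ![L, H]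
    (fun i => by fin_cases i <;> first | exact hL | exact hH.1)
  simp only [Fin.sum_univ_two, Matrix.cons_val_zero, Matrix.cons_val_one] at hNc
  have hNH : pr k N H = 0 := by
    have h1 : B (NumR.clR k X N hN) h = 0 := by
      rw [hNc]
      simp only [map_add, map_smul, LinearMap.add_apply, LinearMap.smul_apply, smul_eq_mul, h, B_clR k hdim hB]
      push_cast
      ring
    rw [B_clR k hdim hB] at h1
    exact_mod_cast h1
  have h2 : B (NumR.clR k X N hN) (NumR.clR k X N hN) ≤ 0 := by
    rw [B_clR k hdim hB]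
    exact_mod_cast pr_self_nonpos k hdim hH hN hNH
  rw [hNc] at h2
  simp only [map_add, map_smul, LinearMap.add_apply, LinearMap.smul_apply, smul_eq_mul,
    B_clR k hdim hB] at h2
  show B h h * B (NumR.clR k X L hL) (NumR.clR k X L hL) ≤ (B (NumR.clR k X L hL) h) ^ 2
  simp only [h, B_clR k hdim hB]
  rw [pr_symm k H L] at h2
  have hHH : (0 : ℝ) < pr k H H := by exact_mod_cast pr_ample_pos k hdim hH hH
  push_cast at h2 ⊢
  refine le_of_mul_le_mul_left ?_ hHH
  nlinarith

theorem nonpos_of_orth {y : NumR.N1R k X} (hy : B y (NumR.clR k X H hH.1) = 0) : B y y ≤ 0 := by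
  have h := hodge_ineq k hdim hB hH y
  rw [hy] at h
  have hp := clR_ample_pos k hdim hB hH hH
  nlinarith

theorem eq_zero_of_orth {y : NumR.N1R k X} (hy : B y (NumR.clR k X H hH.1) = 0) (h0 : 0 ≤ B y y) : y = 0 := by
  let h := NumR.clR k X H hH.1
  have hyy : B y y = 0 := le_antisymm (nonpos_of_orth k hdim hB hH hy) h0
  have hp : 0 < B h h := clR_ample_pos k hdim hB hH hH
  refine nondegenerate k hdim hB fun z => ?_
  let z₀ := z - (B z h / B h h) • h
  have hz₀ : B z₀ h = 0 := by
    simp only [z₀, map_sub, map_smul, LinearMap.sub_apply, LinearMap.smul_apply, smul_eq_mul]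
    field_simp
    ring
  have hyz : B y z = B y z₀ := by
    simp only [z₀, map_sub, map_smul, smul_eq_mul, show B y h = 0 from hy, mul_zero, sub_zero]
  rw [hyz]
  have key : ∀ t : ℝ, 2 * t * B y z₀ + t ^ 2 * B z₀ z₀ ≤ 0 := fun t => by
    have h1 := nonpos_of_orth k hdim hB hH (y := y + t • z₀) (by
      simp only [map_add, map_smul, LinearMap.add_apply, LinearMap.smul_apply, smul_eq_mul]
      rw [show B y (NumR.clR k X H hH.1) = 0 from hy, show B z₀ (NumR.clR k X H hH.1) = 0 from hz₀]
      ring)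
    simp only [map_add, map_smul, LinearMap.add_apply, LinearMap.smul_apply, smul_eq_mul,
      B_symm k hdim hB z₀ y, hyy] at h1
    nlinarith
  have h2 := nonpos_of_orth k hdim hB hH hz₀
  by_contra hne
  have hden : B z₀ z₀ - 1 < 0 := by linarith
  have h3 := key (B y z₀ / (1 - B z₀ z₀))
  have hd : 0 < 1 - B z₀ z₀ := by linarith
  rw [div_pow, ← mul_div_assoc, div_mul_eq_mul_div, div_mul_eq_mul_div, div_add_div _ _ hd.ne' (pow_pos hd 2).ne',
    div_le_iff₀ (mul_pos hd (pow_pos hd 2)), zero_mul] at h3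
  have hsq : 0 < (B y z₀) ^ 2 := by positivity
  nlinarith [mul_pos (mul_pos hsq hd) hd, mul_nonneg (mul_nonneg hsq.le hd.le) hd.le]

/-- Two classes of the positive cone meet positively. -/
theorem pos_of_mem {x y : NumR.N1R k X} (hx : x ∈ NumR.posCone k X B H hH.1) (hy : 0 ≤ B y y)
    (hyH : 0 < B y (NumR.clR k X H hH.1)) : 0 < B x y := by
  obtain ⟨hxx, hxH⟩ := hx
  let h := NumR.clR k X H hH.1
  by_contra hle
  push Not at hle
  have hz := nonpos_of_orth k hdim hB hH (y := B y h • x - B x h • y) (by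
    simp only [map_sub, map_smul, LinearMap.sub_apply, LinearMap.smul_apply, smul_eq_mul, h]
    ring)
  simp only [map_sub, map_smul, LinearMap.sub_apply, LinearMap.smul_apply, smul_eq_mul, B_symm k hdim hB y x] at hz
  change 0 < B x h at hxH
  change 0 < B y h at hyH
  nlinarith [mul_pos (mul_pos hyH hyH) hxx, mul_nonneg (mul_nonneg hxH.le hxH.le) hy,
    mul_nonneg (mul_nonneg hyH.le hxH.le) (neg_nonneg.2 hle)]

/-- The orthogonal of a positive class is negative definite. -/
theorem eq_zero_of_orth_pos {x y : NumR.N1R k X} (hx : x ∈ NumR.posCone k X B H hH.1) (hy : 0 ≤ B y y)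
    (hxy : B x y = 0) : y = 0 := by
  obtain ⟨hxx, hxH⟩ := hx
  let h := NumR.clR k X H hH.1
  change 0 < B x h at hxH
  have hz : B y h • x - B x h • y = 0 := eq_zero_of_orth k hdim hB hH (by
    simp only [map_sub, map_smul, LinearMap.sub_apply, LinearMap.smul_apply, smul_eq_mul, h]
    ring) (by
    simp only [map_sub, map_smul, LinearMap.sub_apply, LinearMap.smul_apply, smul_eq_mul,
      B_symm k hdim hB y x, hxy]
    nlinarith [mul_nonneg (sq_nonneg (B y h)) hxx.le, mul_nonneg (mul_nonneg hxH.le hxH.le) hy])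
  have h1 := congrArg (B x) hz
  simp only [map_sub, map_smul, smul_eq_mul, hxy, mul_zero, sub_zero, map_zero] at h1
  rw [(mul_eq_zero.1 h1).resolve_right hxx.ne', zero_smul, zero_sub, neg_eq_zero] at hz
  exact (smul_eq_zero.1 hz).resolve_left hxH.ne'

omit hdim hB [IsAlgClosed k] in
theorem isOpen_posCone : IsOpen (NumR.posCone k X B H hH.1) :=
  (isOpen_lt continuous_const (continuous_B_self k)).inter (isOpen_lt continuous_const (continuous_B_left k _))

theorem convex_posCone : Convex ℝ (NumR.posCone k X B H hH.1) := by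
  intro x hx y hy a b ha hb hab
  have hxy := pos_of_mem k hdim hB hH hx hy.1.le hy.2
  obtain ⟨hxx, hxH⟩ := hx
  obtain ⟨hyy, hyH⟩ := hy
  rcases ha.eq_or_lt with rfl | ha'
  · obtain rfl : b = 1 := by linarith
    exact ⟨by simpa using hyy, by simpa using hyH⟩
  refine ⟨?_, ?_⟩ <;>
    simp only [map_add, map_smul, LinearMap.add_apply, LinearMap.smul_apply, smul_eq_mul, B_symm k hdim hB y x]
  · have h1 := mul_pos (mul_pos ha' ha') hxx
    have h2 := mul_nonneg (mul_nonneg ha hb) hxy.le
    have h3 := mul_nonneg (mul_nonneg hb hb) hyy.le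
    nlinarith
  · have h1 := mul_pos ha' hxH
    have h2 := mul_nonneg hb hyH.le
    linarith

end Groth.Agent.H28Num
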