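import Groth.Agent.H28Num.Cone
import Mathlib.LinearAlgebra.Matrix.NonsingularInverse
import Mathlib.LinearAlgebra.Matrix.ToLinearEquiv

/-!
# Walls of the ample cone and negative definite configurations
-/

set_option autoImplicit false
set_option linter.style.haveILetI false
set_option linter.unusedSectionVars false
set_option backward.isDefEq.respectTransparency.types false
universe u

open CategoryTheory CategoryTheory.Limits AlgebraicGeometry Opposite TopologicalSpace Matrix

namespace Groth.Agent.H28Num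

/-- Negative definiteness over the integers gives it over the reals. -/
theorem real_negDef {r : ℕ} (M : Matrix (Fin r) (Fin r) ℤ) (hsym : ∀ i j, M i j = M j i)
    (hneg : ∀ a : Fin r → ℤ, a ≠ 0 → ∑ i, ∑ j, a i * a j * M i j < 0) :
    (M.map (Int.cast : ℤ → ℝ)).det ≠ 0 ∧
      ∀ u : Fin r → ℝ, 0 ≤ ∑ i, ∑ j, u i * u j * (M i j : ℝ) → u = 0 := by
  classical
  have hdet : M.det ≠ 0 := by
    intro h
    obtain ⟨z, hz, hMz⟩ := Matrix.exists_mulVec_eq_zero_iff.2 h
    refine (hneg z hz).ne ?_
    rw [Finset.sum_congr rfl fun i _ => show ∑ j, z i * z j * M i j = z i * (M *ᵥ z) i by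
      rw [Matrix.mulVec, dotProduct, Finset.mul_sum]; exact Finset.sum_congr rfl fun j _ => by ring]
    simp [hMz]
  have hdetR : (M.map (Int.cast : ℤ → ℝ)).det ≠ 0 := by
    have h := RingHom.map_det (Int.castRingHom ℝ) M
    rw [RingHom.mapMatrix_apply] at h
    change (M.det : ℝ) = (M.map (Int.cast : ℤ → ℝ)).det at h
    rw [← h]
    exact_mod_cast hdet
  refine ⟨hdetR, ?_⟩
  let q : (Fin r → ℝ) → ℝ := fun u => ∑ i, ∑ j, u i * u j * (M i j : ℝ)
  have hq : ∀ u, q u ≤ 0 := by
    refine fun u => isClosed_property (DenseRange.piMap fun _ : Fin r => Rat.denseRange_cast (𝕜 := ℝ))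
      (isClosed_le (by fun_prop) continuous_const) (fun c => ?_) u
    let N : ℕ := ∏ i, (c i).den
    have hN : (0 : ℝ) < N := Nat.cast_pos.2 (Finset.prod_pos fun i _ => (c i).den_pos)
    have ha : ∀ i, ∃ a : ℤ, (c i : ℝ) = (N : ℝ)⁻¹ * a := fun i => by
      obtain ⟨m, hm⟩ := Finset.dvd_prod_of_mem (fun j => (c j).den) (Finset.mem_univ i)
      refine ⟨(c i).num * m, ?_⟩
      rw [eq_inv_mul_iff_mul_eq₀ hN.ne', show (N : ℝ) = ((c i).den : ℝ) * m by exact_mod_cast hm, Rat.cast_def]
      have hd : ((c i).den : ℝ) ≠ 0 := Nat.cast_ne_zero.2 (c i).den_pos.ne'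
      push_cast
      field_simp
    choose a ha using ha
    show ∑ i, ∑ j, (c i : ℝ) * (c j : ℝ) * (M i j : ℝ) ≤ 0
    have hs : ∑ i, ∑ j, (c i : ℝ) * (c j : ℝ) * (M i j : ℝ) =
        ((N : ℝ)⁻¹) ^ 2 * ((∑ i, ∑ j, a i * a j * M i j : ℤ) : ℝ) := by
      push_cast
      simp only [Finset.mul_sum, ha]
      exact Finset.sum_congr rfl fun i _ => Finset.sum_congr rfl fun j _ => by ring
    rw [hs]
    refine mul_nonpos_of_nonneg_of_nonpos (sq_nonneg _) ?_
    rcases eq_or_ne a 0 with rfl | h0
    · simp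
    · exact_mod_cast (hneg a h0).le
  intro u hu
  have hu0 : q u = 0 := le_antisymm (hq u) hu
  let w := M.map (Int.cast : ℤ → ℝ) *ᵥ u
  have hw : ∀ i, w i = ∑ j, (M i j : ℝ) * u j := fun i => rfl
  have hsq : ∑ i, w i * w i = 0 := by
    have key : ∀ t : ℝ, 2 * t * (∑ i, w i * w i) + t ^ 2 * q w ≤ 0 := by
      intro t
      have h1 := hq (u + t • w)
      have e : q (u + t • w) = q u + t * (∑ i, ∑ j, u i * w j * (M i j : ℝ)) +
          t * (∑ i, ∑ j, w i * u j * (M i j : ℝ)) + t ^ 2 * q w := by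
        simp only [q, Finset.mul_sum, ← Finset.sum_add_distrib, Pi.add_apply, Pi.smul_apply, smul_eq_mul]
        exact Finset.sum_congr rfl fun i _ => Finset.sum_congr rfl fun j _ => by ring
      have e2 : (∑ i, ∑ j, w i * u j * (M i j : ℝ)) = ∑ i, w i * w i := by
        refine Finset.sum_congr rfl fun i _ => ?_
        conv_rhs => arg 2; rw [hw]
        rw [Finset.mul_sum]
        exact Finset.sum_congr rfl fun j _ => by ring
      have e3 : (∑ i, ∑ j, u i * w j * (M i j : ℝ)) = ∑ i, w i * w i := by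
        rw [← e2, Finset.sum_comm]
        exact Finset.sum_congr rfl fun i _ => Finset.sum_congr rfl fun j _ => by rw [hsym j i]; ring
      rw [e, e2, e3, hu0] at h1
      linarith
    have hS : 0 ≤ ∑ i, w i * w i := Finset.sum_nonneg fun i _ => mul_self_nonneg _
    have hqw := hq w
    by_contra hne
    have hSpos : 0 < ∑ i, w i * w i := lt_of_le_of_ne hS (Ne.symm hne)
    generalize ∑ i, w i * w i = S at key hSpos
    generalize q w = Q at key hqw
    have h2 := key (S / (1 - Q))
    have hd : 0 < 1 - Q := by linarith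
    rw [div_pow, ← mul_div_assoc, div_mul_eq_mul_div, div_mul_eq_mul_div, div_add_div _ _ hd.ne' (pow_pos hd 2).ne',
      div_le_iff₀ (mul_pos hd (pow_pos hd 2)), zero_mul] at h2
    nlinarith [mul_pos (mul_pos (mul_pos hSpos hSpos) hd) hd, mul_nonneg (mul_nonneg (mul_nonneg hS hS) hd.le) hd.le]
  have hw0 : w = 0 := funext fun i => by
    have := (Finset.sum_eq_zero_iff_of_nonneg fun i _ => mul_self_nonneg (w i)).1 hsq i (Finset.mem_univ i)
    exact mul_self_eq_zero.1 this
  by_contra hne
  exact hdetR (Matrix.exists_mulVec_eq_zero_iff.1 ⟨u, hne, hw0⟩)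

variable {X : Scheme.{u}} (k : Type u) [Field k] [X.Over (Spec (CommRingCat.of k))] [PicGrp.Law X]
  [IsProper (X ↘ Spec (CommRingCat.of k))] [Smooth (X ↘ Spec (CommRingCat.of k))] [IsIntegral X]
  [Module.Finite ℝ (NumR.N1R k X)] [IsAlgClosed k]
  (hdim : topologicalKrullDim X = 2)
  {B : NumR.N1R k X →ₗ[ℝ] NumR.N1R k X →ₗ[ℝ] ℝ} (hB : NumR.IsIntForm₂ k X B)
  {H : X.Modules} (hH : CohB1.IsAmple H)
  {r : ℕ} (C : Fin r → X.IdealSheafData) (hC : Function.Injective C)
  (hCi : ∀ i, IsIntegral (C i).subscheme) (hCd : ∀ i, topologicalKrullDim ((C i).support : Set X) = 1)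
  (hCinv : ∀ i, PicF.IsInvertible (ClSub.idealMod (C i)))

include hdim hB hH hC hCi hCd

theorem walls_iff :
    (∃ x : NumR.N1R k X, x ∈ closure (NumR.ampleCone k X : Set (NumR.N1R k X)) ∧ x ∈ NumR.posCone k X B H hH.1 ∧
        ∀ i, x ∈ NumR.wall k X B (C i) (hCinv i)) ↔
      (∀ a : Fin r → ℤ, a ≠ 0 →
      ∑ i, ∑ j, a i * a j * FGA.intNum k X 2 ![(ClSub.idealMod (C i)), (ClSub.idealMod (C j))] (Coh.structureModule X) < 0) := by
  classical
  let cc : Fin r → NumR.N1R k X := fun i => NumR.curveCl k X (C i) (hCinv i)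
  let M : Matrix (Fin r) (Fin r) ℤ := fun i j =>
    FGA.intNum k X 2 ![(ClSub.idealMod (C i)), (ClSub.idealMod (C j))] (Coh.structureModule X)
  have hM : ∀ i j, (M i j : ℝ) = B (cc i) (cc j) := fun i j => by
    simp only [cc, NumR.curveCl, map_neg, LinearMap.neg_apply, neg_neg]
    exact (hB _ _ (hCinv i) (hCinv j)).symm
  have hsym : ∀ i j, M i j = M j i := fun i j => by
    have h := B_symm k hdim hB (cc i) (cc j)
    rw [← hM, ← hM] at h
    exact_mod_cast h
  have hoff : ∀ i j, i ≠ j → 0 ≤ B (cc i) (cc j) := fun i j h =>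
    curve_nonneg k hdim hB (hCi i) (hCd i) (hCi j) (hCd j) _ _ (hC.ne h)
  let h := NumR.clR k X H hH.1
  have hcpos : ∀ i, 0 < B h (cc i) := fun i => clR_ample_curve_pos k hdim hB hH (hCi i) (hCd i) _
  have hquad : ∀ u w : Fin r → ℝ, B (∑ i, u i • cc i) (∑ j, w j • cc j) = ∑ i, ∑ j, u i * w j * (M i j : ℝ) :=
    fun u w => by
      simp only [map_sum, LinearMap.sum_apply, map_smul, LinearMap.smul_apply, smul_eq_mul, hM, Finset.mul_sum]
      rw [Finset.sum_comm]
      exact Finset.sum_congr rfl fun i _ => Finset.sum_congr rfl fun j _ => by ring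
  constructor
  · rintro ⟨x, -, hxP, hxW⟩ a ha
    have hx0 : ∀ i, B x (cc i) = 0 := hxW
    by_contra hlt
    push Not at hlt
    have hxv : ∀ u : Fin r → ℝ, B x (∑ i, u i • cc i) = 0 := fun u => by
      rw [map_sum]
      exact Finset.sum_eq_zero fun i _ => by rw [map_smul, hx0, smul_zero]
    have hzero : ∀ u : Fin r → ℝ, (∀ i, 0 ≤ u i) → 0 ≤ B (∑ i, u i • cc i) (∑ i, u i • cc i) → ∀ i, u i = 0 := by
      intro u hu hsq i
      have h0 := eq_zero_of_orth_pos k hdim hB hH hxP hsq (hxv u)
      have h1 : B h (∑ i, u i • cc i) = 0 := by rw [h0, map_zero]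
      rw [map_sum, Finset.sum_eq_zero_iff_of_nonneg fun i _ => by
        rw [map_smul, smul_eq_mul]; exact mul_nonneg (hu i) (hcpos i).le] at h1
      have h2 := h1 i (Finset.mem_univ i)
      rw [map_smul, smul_eq_mul] at h2
      exact (mul_eq_zero.1 h2).resolve_right (hcpos i).ne'
    let v : Fin r → ℝ := fun i => a i
    let p : Fin r → ℝ := fun i => max (a i : ℝ) 0
    let n : Fin r → ℝ := fun i => max (-(a i : ℝ)) 0
    have hv : ∑ i, v i • cc i = 0 := by
      refine eq_zero_of_orth_pos k hdim hB hH hxP ?_ (hxv v)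
      rw [hquad]
      have h' : (0 : ℝ) ≤ ((∑ i, ∑ j, a i * a j * M i j : ℤ) : ℝ) := Int.cast_nonneg hlt
      push_cast at h'
      exact h'
    have hpn : ∑ i, p i • cc i = ∑ i, n i • cc i := by
      rw [← sub_eq_zero, ← Finset.sum_sub_distrib, ← hv]
      refine Finset.sum_congr rfl fun i _ => ?_
      rw [← sub_smul]
      congr 1
      rcases le_total (a i : ℝ) 0 with h' | h' <;> simp [p, n, v, h']
    have hmix : 0 ≤ B (∑ i, p i • cc i) (∑ i, n i • cc i) := by
      rw [hquad]
      refine Finset.sum_nonneg fun i _ => Finset.sum_nonneg fun j _ => ?_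
      rcases eq_or_ne i j with rfl | hij
      · rcases le_total (a i : ℝ) 0 with h' | h' <;> simp [p, n, h']
      · rw [hM]
        exact mul_nonneg (mul_nonneg (le_max_right _ _) (le_max_right _ _)) (hoff i j hij)
    have hp := hzero p (fun i => le_max_right _ _) (by
      conv_rhs => arg 2; rw [hpn]
      exact hmix)
    have hn := hzero n (fun i => le_max_right _ _) (by
      conv_rhs => arg 1; arg 2; rw [← hpn]
      exact hmix)
    refine ha (funext fun i => ?_)
    have h1 : (a i : ℝ) ≤ 0 := (le_max_left _ _).trans (hp i).le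
    have h2 : -(a i : ℝ) ≤ 0 := (le_max_left _ _).trans (hn i).le
    show a i = 0
    exact_mod_cast (le_antisymm h1 (by linarith) : (a i : ℝ) = 0)
  · intro hneg
    obtain ⟨hdet, hdef⟩ := real_negDef M hsym hneg
    let A := M.map (Int.cast : ℤ → ℝ)
    obtain ⟨c, hc⟩ : ∃ c : Fin r → ℝ, A *ᵥ c = fun i => - B h (cc i) :=
      ⟨A⁻¹ *ᵥ fun i => - B h (cc i), by rw [Matrix.mulVec_mulVec, Matrix.mul_nonsing_inv _ (isUnit_iff_ne_zero.2 hdet), Matrix.one_mulVec]⟩
    have hci : ∀ i, ∑ j, (M i j : ℝ) * c j = - B h (cc i) := fun i => congrFun hc i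
    have hc0 : ∀ i, 0 ≤ c i := by
      let u : Fin r → ℝ := fun i => max (-c i) 0
      have hu : ∀ i, 0 ≤ u i := fun i => le_max_right _ _
      have hu0 : u = 0 := by
        refine hdef u ?_
        have h1 : ∑ i, ∑ j, u i * c j * (M i j : ℝ) ≤ 0 := by
          refine Finset.sum_nonpos fun i _ => ?_
          rw [Finset.sum_congr rfl fun j _ => show u i * c j * (M i j : ℝ) = u i * ((M i j : ℝ) * c j) by ring,
            ← Finset.mul_sum, hci]
          exact mul_nonpos_of_nonneg_of_nonpos (hu i) (neg_nonpos.2 (hcpos i).le)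
        have h2 : 0 ≤ ∑ i, ∑ j, u i * (c j + u j) * (M i j : ℝ) := by
          refine Finset.sum_nonneg fun i _ => Finset.sum_nonneg fun j _ => ?_
          have hj : 0 ≤ c j + u j := by have := le_max_left (-c j) 0; linarith
          rcases eq_or_ne i j with rfl | hij
          · rcases le_total (c i) 0 with h' | h' <;> simp [u, h']
          · rw [hM]
            exact mul_nonneg (mul_nonneg (hu i) hj) (hoff i j hij)
        simp only [mul_add, add_mul, Finset.sum_add_distrib] at h2
        linarith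
      intro i
      have := congrFun hu0 i
      simp only [u, Pi.zero_apply] at this
      have h3 := le_max_left (-c i) 0
      linarith
    let x := h + ∑ j, c j • cc j
    have hxc : ∀ i, B x (cc i) = 0 := fun i => by
      simp only [x, map_add, LinearMap.add_apply, map_sum, LinearMap.sum_apply, map_smul, LinearMap.smul_apply, smul_eq_mul]
      rw [Finset.sum_congr rfl fun j _ => show c j * B (cc j) (cc i) = (M i j : ℝ) * c j by
        rw [hM, B_symm k hdim hB (cc i)]; ring, hci]
      ring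
    have hnef : x ∈ NumR.nefCone₂ k X B := by
      intro I hIi hId hI
      by_cases hin : ∃ i, C i = I
      · obtain ⟨i, rfl⟩ := hin
        exact (hxc i).ge
      · push Not at hin
        simp only [x, map_add, LinearMap.add_apply, map_sum, LinearMap.sum_apply, map_smul, LinearMap.smul_apply, smul_eq_mul]
        exact add_nonneg (clR_ample_curve_pos k hdim hB hH hIi hId hI).le (Finset.sum_nonneg fun j _ =>
          mul_nonneg (hc0 j) (curve_nonneg k hdim hB (hCi j) (hCd j) hIi hId _ _ (hin j)))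
    have hxh : 0 < B x h := by
      simp only [x, map_add, LinearMap.add_apply, map_sum, LinearMap.sum_apply, map_smul, LinearMap.smul_apply, smul_eq_mul]
      exact add_pos_of_pos_of_nonneg (clR_ample_pos k hdim hB hH hH) (Finset.sum_nonneg fun j _ =>
        mul_nonneg (hc0 j) (by rw [B_symm k hdim hB]; exact (hcpos j).le))
    have hxx : B x x = B x h := by
      show B x (h + ∑ j, c j • cc j) = B x h
      rw [map_add, map_sum, Finset.sum_eq_zero fun j _ => by rw [map_smul, hxc, smul_zero], add_zero]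
    exact ⟨x, mem_closure_of_nef k hdim hB hH hnef, ⟨hxx ▸ hxh, hxh⟩, hxc⟩

end Groth.Agent.H28Num
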